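import Mathlib
import Cfsg.Agent.Lib.Helper8.PG.Defs

/-!
# S2474 package [ZSTR]: the structure of an involution `z` of determinant one commuting with `t`
-/

set_option autoImplicit false
set_option linter.unusedSimpArgs false

namespace Cfsg.Agent.Lib.Helper67.PG

open Matrix Cfsg.Agent.Lib.Helper8.PG

universe u

theorem eq_of_mulVec {F : Type u} [Field F] {ι : Type} [Fintype ι] [DecidableEq ι]
    (A B : Matrix ι ι F) (h : ∀ v, A *ᵥ v = B *ᵥ v) : A = B := by
  have h1 : Matrix.toLin' A = Matrix.toLin' B :=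
    LinearMap.ext (fun v => by rw [Matrix.toLin'_apply, Matrix.toLin'_apply, h v])
  exact Matrix.toLin'.injective h1

/-- a rank-one idempotent `e` (with image the line `F v₁`) gives `det (1 - e - e) = -1` -/
theorem det_line {F : Type u} [Field F] {ι : Type} [Fintype ι] [DecidableEq ι]
    (e : Matrix ι ι F) (hee : e * e = e) (he0 : e ≠ 0) (v₁ : ι → F) (hv₁ : v₁ ≠ 0)
    (hline : ∀ w, ∃ c : F, e *ᵥ w = c • v₁) : (1 - e - e).det = -1 := by
  choose a ha using fun j : ι => hline (Pi.single j 1)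
  have hentry : ∀ i j, e i j = v₁ i * a j := by
    intro i j
    have h1 := congrFun (ha j) i
    rw [Matrix.mulVec_single_one] at h1
    simpa [mul_comm] using h1
  -- a nonzero value
  have hex : ∃ w₀, e *ᵥ w₀ ≠ 0 := by
    by_contra hcon
    apply he0
    apply eq_of_mulVec
    intro v
    rw [Matrix.zero_mulVec]
    by_contra hv
    exact hcon ⟨v, hv⟩
  obtain ⟨w₀, hw₀⟩ := hex
  obtain ⟨c₀, hc₀⟩ := hline w₀
  have hc₀0 : c₀ ≠ 0 := by
    intro h
    rw [h, zero_smul] at hc₀
    exact hw₀ hc₀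
  have hev₁ : e *ᵥ v₁ = v₁ := by
    have h1 : e *ᵥ (e *ᵥ w₀) = e *ᵥ w₀ := by rw [Matrix.mulVec_mulVec, hee]
    rw [hc₀, Matrix.mulVec_smul] at h1
    exact smul_right_injective (ι → F) hc₀0 h1
  have hdot : a ⬝ᵥ v₁ = 1 := by
    obtain ⟨i, hi⟩ : ∃ i, v₁ i ≠ 0 := by
      by_contra hcon
      apply hv₁
      funext i
      by_contra hi
      exact hcon ⟨i, hi⟩
    have h1 := congrFun hev₁ i
    have h2 : (e *ᵥ v₁) i = v₁ i * (a ⬝ᵥ v₁) := by
      simp only [Matrix.mulVec, dotProduct, hentry, Finset.mul_sum, mul_assoc]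
    rw [h2] at h1
    have h3 : v₁ i * (a ⬝ᵥ v₁ - 1) = 0 := by linear_combination h1
    rcases mul_eq_zero.mp h3 with h | h
    · exact absurd h hi
    · linear_combination h
  have hmat : (1 - e - e : Matrix ι ι F) =
      1 + Matrix.replicateCol (Fin 1) ((-2 : F) • v₁) * Matrix.replicateRow (Fin 1) a := by
    ext i j
    simp only [Matrix.sub_apply, Matrix.add_apply, Matrix.mul_apply, Matrix.replicateCol_apply,
      Matrix.replicateRow_apply, Finset.univ_unique, Finset.sum_singleton, Pi.smul_apply,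
      smul_eq_mul, hentry]
    ring
  have hd := Matrix.det_one_add_replicateCol_mul_replicateRow (ι := Fin 1) ((-2 : F) • v₁) a
  refine (congrArg Matrix.det hmat).trans (hd.trans ?_)
  rw [dotProduct_smul, hdot, smul_eq_mul, mul_one]
  norm_num

theorem pkgZStr : PkgZStr.{u} := by
  intro F _ h2 ι _ _ Q hQ hodd h3 s hfix z t hz ht hzz hz1 hdet hzt hts ht1 v₀ hQv₀ htv₀
  classical
  obtain ⟨c, hc⟩ : ∃ c : F, c = 2⁻¹ := ⟨_, rfl⟩
  have hc2 : c * 2 = 1 := by rw [hc]; exact inv_mul_cancel₀ h2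
  obtain ⟨ep, hep⟩ : ∃ ep : Matrix ι ι F, ep = c • (1 + z) := ⟨_, rfl⟩
  obtain ⟨em, hem⟩ : ∃ em : Matrix ι ι F, em = c • (1 - z) := ⟨_, rfl⟩
  have hsum : ep + em = 1 := by
    rw [hep, hem, ← smul_add]
    have h' : (1 + z) + (1 - z) = (2 : F) • (1 : Matrix ι ι F) := by
      rw [two_smul]; abel
    rw [h', smul_smul, hc2, one_smul]
  have hzep : z * ep = ep := by
    rw [hep, Matrix.mul_smul, mul_add, mul_one, hzz, add_comm]
  have hzem : z * em = -em := by
    rw [hem, Matrix.mul_smul, mul_sub, mul_one, hzz, ← smul_neg, neg_sub]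
  have hepep : ep * ep = ep := by
    calc ep * ep = (c • (1 + z)) * ep := by rw [← hep]
      _ = c • (ep + z * ep) := by rw [Matrix.smul_mul, add_mul, one_mul]
      _ = c • ((2 : F) • ep) := by rw [hzep, two_smul]
      _ = ep := by rw [smul_smul, hc2, one_smul]
  have hemep : em * ep = 0 := by
    calc em * ep = (c • (1 - z)) * ep := by rw [← hem]
      _ = c • (ep - z * ep) := by rw [Matrix.smul_mul, sub_mul, one_mul]
      _ = 0 := by rw [hzep, sub_self, smul_zero]
  have hepem : ep * em = 0 := by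
    calc ep * em = (c • (1 + z)) * em := by rw [← hep]
      _ = c • (em + z * em) := by rw [Matrix.smul_mul, add_mul, one_mul]
      _ = 0 := by rw [hzem, add_neg_cancel, smul_zero]
  have hemem : em * em = em := by
    calc em * em = (c • (1 - z)) * em := by rw [← hem]
      _ = c • (em - z * em) := by rw [Matrix.smul_mul, sub_mul, one_mul]
      _ = c • ((2 : F) • em) := by rw [hzem, sub_neg_eq_add, two_smul]
      _ = em := by rw [smul_smul, hc2, one_smul]
  have hept : ep * t = t * ep := by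
    rw [hep, Matrix.smul_mul, Matrix.mul_smul, add_mul, mul_add, one_mul, mul_one, hzt]
  have hemt : em * t = t * em := by
    rw [hem, Matrix.smul_mul, Matrix.mul_smul, sub_mul, mul_sub, one_mul, mul_one, hzt]
  -- associative versions
  have hepep' : ∀ X : Matrix ι ι F, ep * (ep * X) = ep * X := fun X => by
    rw [← mul_assoc, hepep]
  have hemem' : ∀ X : Matrix ι ι F, em * (em * X) = em * X := fun X => by
    rw [← mul_assoc, hemem]
  have hepem' : ∀ X : Matrix ι ι F, ep * (em * X) = 0 := fun X => by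
    rw [← mul_assoc, hepem, zero_mul]
  have hemep' : ∀ X : Matrix ι ι F, em * (ep * X) = 0 := fun X => by
    rw [← mul_assoc, hemep, zero_mul]
  have hept' : ∀ X : Matrix ι ι F, ep * (t * X) = t * (ep * X) := fun X => by
    rw [← mul_assoc, hept, mul_assoc]
  have hemt' : ∀ X : Matrix ι ι F, em * (t * X) = t * (em * X) := fun X => by
    rw [← mul_assoc, hemt, mul_assoc]
  -- vectors
  have horth : ∀ u w : ι → F, z *ᵥ u = u → z *ᵥ w = -w → QuadraticMap.polar Q u w = 0 := by
    intro u w hu hw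
    have h1 : QuadraticMap.polar Q (z *ᵥ u) (z *ᵥ w) = QuadraticMap.polar Q u w := by
      unfold QuadraticMap.polar
      rw [← Matrix.mulVec_add, hz, hz, hz]
    rw [hu, hw, QuadraticMap.polar_neg_right] at h1
    have h3 : (2 : F) * QuadraticMap.polar Q u w = 0 := by linear_combination -h1
    rcases mul_eq_zero.mp h3 with h | h
    · exact absurd h h2
    · exact h
  have hQadd : ∀ u w : ι → F, z *ᵥ u = u → z *ᵥ w = -w → Q (u + w) = Q u + Q w := by
    intro u w hu hw
    have h' := horth u w hu hw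
    unfold QuadraticMap.polar at h'
    linear_combination h'
  have hzepv : ∀ v : ι → F, z *ᵥ (ep *ᵥ v) = ep *ᵥ v := fun v => by
    rw [Matrix.mulVec_mulVec, hzep]
  have hzemv : ∀ v : ι → F, z *ᵥ (em *ᵥ v) = -(em *ᵥ v) := fun v => by
    rw [Matrix.mulVec_mulVec, hzem, Matrix.neg_mulVec]
  have hdecomp : ∀ v : ι → F, ep *ᵥ v + em *ᵥ v = v := fun v => by
    rw [← Matrix.add_mulVec, hsum, Matrix.one_mulVec]
  have hztv : ∀ v : ι → F, z *ᵥ (t *ᵥ v) = t *ᵥ (z *ᵥ v) := fun v => by
    rw [Matrix.mulVec_mulVec, hzt, ← Matrix.mulVec_mulVec]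
  obtain ⟨tp, htp⟩ : ∃ tp : Matrix ι ι F, tp = t * ep + em := ⟨_, rfl⟩
  obtain ⟨tm, htm⟩ : ∃ tm : Matrix ι ι F, tm = ep + t * em := ⟨_, rfl⟩
  have htpm : tp * tm = t := by
    rw [htp, htm]
    simp only [mul_add, add_mul, mul_assoc, hepep, hepem, hemep, hemem, hept, hemt, hepep',
      hemem', hepem', hemep', hept', hemt', mul_zero, zero_add, add_zero]
    rw [← mul_add, hsum, mul_one]
  have htpem : tp * em = em := by
    rw [htp, add_mul, mul_assoc, hepem, mul_zero, zero_add, hemem]
  have htmep : tm * ep = ep := by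
    rw [htm, add_mul, mul_assoc, hemep, mul_zero, add_zero, hepep]
  have htppow : ∀ k : ℕ, tp ^ k = t ^ k * ep + em := by
    intro k
    induction k with
    | zero => rw [pow_zero, pow_zero, one_mul, hsum]
    | succ k ih =>
      rw [pow_succ, ih, htp, pow_succ]
      simp only [mul_add, add_mul, mul_assoc, hepep, hepem, hemep, hemem, hept, hemt, hepep',
        hemem', hepem', hemep', hept', hemt', mul_zero, zero_add, add_zero]
  have htmpow : ∀ k : ℕ, tm ^ k = ep + t ^ k * em := by
    intro k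
    induction k with
    | zero => rw [pow_zero, pow_zero, one_mul, hsum]
    | succ k ih =>
      rw [pow_succ, ih, htm, pow_succ]
      simp only [mul_add, add_mul, mul_assoc, hepep, hepem, hemep, hemem, hept, hemt, hepep',
        hemem', hepem', hemep', hept', hemt', mul_zero, zero_add, add_zero]
  have htps : tp ^ s = 1 := by rw [htppow, hts, one_mul, hsum]
  have htms : tm ^ s = 1 := by rw [htmpow, hts, one_mul, hsum]
  have htpiso : ∀ v, Q (tp *ᵥ v) = Q v := by
    intro v
    have hu : z *ᵥ (t *ᵥ (ep *ᵥ v)) = t *ᵥ (ep *ᵥ v) := by rw [hztv, hzepv]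
    rw [htp, Matrix.add_mulVec, ← Matrix.mulVec_mulVec, hQadd _ _ hu (hzemv v), ht,
      ← hQadd _ _ (hzepv v) (hzemv v), hdecomp]
  have htmiso : ∀ v, Q (tm *ᵥ v) = Q v := by
    intro v
    have hw : z *ᵥ (t *ᵥ (em *ᵥ v)) = -(t *ᵥ (em *ᵥ v)) := by
      rw [hztv, hzemv, Matrix.mulVec_neg]
    rw [htm, Matrix.add_mulVec, ← Matrix.mulVec_mulVec, hQadd _ _ (hzepv v) hw, ht,
      ← hQadd _ _ (hzepv v) (hzemv v), hdecomp]
  have htpfix : ∀ w, tp *ᵥ (em *ᵥ w) = em *ᵥ w := fun w => by
    rw [Matrix.mulVec_mulVec, htpem]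
  have htmfix : ∀ w, tm *ᵥ (ep *ᵥ w) = ep *ᵥ w := fun w => by
    rw [Matrix.mulVec_mulVec, htmep]
  have hm1 : (-1 : F) ≠ 1 := by
    intro h
    apply h2
    linear_combination -h
  have hQ0 : ∀ v : ι → F, Q v ≠ 0 → v ≠ 0 := by
    intro v hv h0
    rw [h0, map_zero] at hv
    exact hv rfl
  by_cases htm1 : tm = 1
  · -- `t = tp` fixes the `-1`-eigenspace: `det z = -1`
    exfalso
    have htt : t = tp := by rw [← htpm, htm1, mul_one]
    obtain ⟨v₁, hQv₁, -, hline⟩ := hfix t ht hts ht1
    have hem0 : em ≠ 0 := by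
      intro h0
      apply hz1
      have hep1 : ep = 1 := by rw [← hsum, h0, add_zero]
      calc z = z * ep := by rw [hep1, mul_one]
        _ = ep := hzep
        _ = 1 := hep1
    have hzform : z = 1 - em - em := by
      calc z = z * (ep + em) := by rw [hsum, mul_one]
        _ = ep - em := by rw [mul_add, hzep, hzem, sub_eq_add_neg]
        _ = 1 - em - em := by rw [← hsum]; abel
    have hd := det_line em hemem hem0 v₁ (hQ0 v₁ hQv₁)
      (fun w => hline _ (by rw [htt]; exact htpfix w))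
    rw [← hzform, hdet] at hd
    exact hm1 hd.symm
  by_cases htp1 : tp = 1
  · -- `t = tm` fixes the `+1`-eigenspace, which is the line through `v₀`
    have htt : t = tm := by rw [← htpm, htp1, one_mul]
    obtain ⟨v₁, hQv₁, -, hline⟩ := hfix t ht hts ht1
    have hv₁0 : v₁ ≠ 0 := hQ0 v₁ hQv₁
    obtain ⟨c₀, hc₀⟩ := hline v₀ htv₀
    have hc₀0 : c₀ ≠ 0 := by
      intro h
      rw [h, zero_smul] at hc₀
      exact hQ0 v₀ hQv₀ hc₀
    have hep0 : ep ≠ 0 := by
      intro h0
      have hem1 : em = 1 := by rw [← hsum, h0, zero_add]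
      have hzneg : z = -1 := by
        calc z = z * em := by rw [hem1, mul_one]
          _ = -1 := by rw [hzem, hem1]
      rw [hzneg, Matrix.det_neg, Matrix.det_one, mul_one, Odd.neg_one_pow hodd] at hdet
      exact hm1 hdet
    have hex : ∃ w₀, ep *ᵥ w₀ ≠ 0 := by
      by_contra hcon
      apply hep0
      apply eq_of_mulVec
      intro v
      rw [Matrix.zero_mulVec]
      by_contra hv
      exact hcon ⟨v, hv⟩
    obtain ⟨w₀, hw₀⟩ := hex
    have hepline : ∀ w, ∃ d : F, ep *ᵥ w = d • v₁ := fun w =>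
      hline _ (by rw [htt]; exact htmfix w)
    obtain ⟨c₁, hc₁⟩ := hepline w₀
    have hc₁0 : c₁ ≠ 0 := by
      intro h
      rw [h, zero_smul] at hc₁
      exact hw₀ hc₁
    have hzv₁ : z *ᵥ v₁ = v₁ := by
      have h1 := hzepv w₀
      rw [hc₁, Matrix.mulVec_smul] at h1
      exact smul_right_injective (ι → F) hc₁0 h1
    have hzv₀ : z *ᵥ v₀ = v₀ := by rw [hc₀, Matrix.mulVec_smul, hzv₁]
    refine ⟨hzv₀, ?_⟩
    intro w hw
    obtain ⟨d, hd⟩ := hepline w
    have hv₁' : v₁ = c₀⁻¹ • v₀ := by rw [hc₀, smul_smul, inv_mul_cancel₀ hc₀0, one_smul]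
    have hepw : ep *ᵥ w = (d * c₀⁻¹) • v₀ := by rw [hd, hv₁', smul_smul]
    have h1 : QuadraticMap.polar Q v₀ w =
        QuadraticMap.polar Q v₀ (ep *ᵥ w) + QuadraticMap.polar Q v₀ (em *ᵥ w) := by
      rw [← QuadraticMap.polar_add_right, hdecomp]
    rw [hw, horth v₀ _ hzv₀ (hzemv w), add_zero, hepw, QuadraticMap.polar_smul_right,
      QuadraticMap.polar_self, smul_eq_mul, two_smul] at h1
    have h4 : (d * c₀⁻¹) * (2 * Q v₀) = 0 := by linear_combination -h1
    have hd0 : d * c₀⁻¹ = 0 := by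
      rcases mul_eq_zero.mp h4 with h | h
      · exact h
      · rcases mul_eq_zero.mp h with h' | h'
        · exact absurd h' h2
        · exact absurd h' hQv₀
    rw [hd0, zero_smul] at hepw
    have hwem : w = em *ᵥ w := by
      have h5 := hdecomp w
      rw [hepw, zero_add] at h5
      exact h5.symm
    rw [hwem, hzemv, ← hwem]
  · -- both nontrivial: the space is spanned by two vectors
    exfalso
    obtain ⟨v₁, -, -, hline₁⟩ := hfix tp htpiso htps htp1
    obtain ⟨v₂, -, -, hline₂⟩ := hfix tm htmiso htms htm1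
    have htop : (⊤ : Submodule F (ι → F)) ≤ Submodule.span F (({v₁, v₂} : Finset (ι → F)) : Set (ι → F)) := by
      intro w _
      obtain ⟨a, ha⟩ := hline₁ _ (htpfix w)
      obtain ⟨b, hb⟩ := hline₂ _ (htmfix w)
      rw [← hdecomp w, ha, hb]
      apply Submodule.add_mem
      · exact Submodule.smul_mem _ _ (Submodule.subset_span (by simp))
      · exact Submodule.smul_mem _ _ (Submodule.subset_span (by simp))
    have h5 : Module.finrank F (ι → F) ≤ 2 := by
      have h6 := finrank_span_finset_le_card (R := F) ({v₁, v₂} : Finset (ι → F))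
      have h7 : Submodule.span F (({v₁, v₂} : Finset (ι → F)) : Set (ι → F)) = ⊤ :=
        top_le_iff.mp htop
      unfold Set.finrank at h6
      rw [h7, finrank_top] at h6
      exact h6.trans Finset.card_le_two
    rw [Module.finrank_fintype_fun_eq_card] at h5
    omega

example : PkgZStr.{3} := pkgZStr
example : PkgZStr.{0} := pkgZStr

end Cfsg.Agent.Lib.Helper67.PG
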